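import Groth.Agent.PunctLefLib.TorsionDual

/-!
# The two alternative depth conditions for extension to neighbourhoods
-/

set_option autoImplicit false
set_option linter.style.haveILetI false
set_option backward.isDefEq.respectTransparency false
set_option backward.isDefEq.respectTransparency.types false

universe u

attribute [local instance] HasDerivedCategory.standard

noncomputable section

open Groth.Agent Groth.Agent.DualCxLib

namespace NhdExt

theorem depth_hyp_of_conditions {A : Type u} [CommRing A] [IsNoetherianRing A] [IsLocalRing A] {ω : Dual.D A}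
    (hω : Dual.IsDualizing A ω) {f : A} (hf : f ∈ IsLocalRing.maximalIdeal A)
    (hc : ((LocCoh.HasSk 2 (Localization.Away f) (Localization.Away f) ∧
        ∀ p : Ideal A, p ∈ minimalPrimes A → f ∉ p → (4 : WithBot ℕ∞) ≤ ringKrullDim (A ⧸ p)) ∨
      (∀ p : Ideal A, ∀ _ : p.IsPrime, f ∉ p → (p ⊔ Ideal.span {f}).radical ≠ IsLocalRing.maximalIdeal A →
        (3 : WithBot ℕ∞) < (LocCoh.depth (Localization.AtPrime p) (Localization.AtPrime p) : WithBot ℕ∞) + ringKrullDim (A ⧸ p)))) :
    ∀ p : Ideal A, ∀ _ : p.IsPrime, f ∉ p → (p ⊔ Ideal.span {f}).radical ≠ IsLocalRing.maximalIdeal A →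
      (3 : WithBot ℕ∞) < (LocCoh.depth (Localization.AtPrime p) (Localization.AtPrime p) : WithBot ℕ∞) + ringKrullDim (A ⧸ p) := by
  rcases hc with ⟨hS, hdim⟩ | hc
  swap
  · exact hc
  intro p hp hfp hrad
  let P : PrimeSpectrum A := ⟨p, hp⟩
  have hm := PunctLefLib.min_height_le_depth hS P hfp
  obtain ⟨e, he⟩ := Int.eq_ofNat_of_zero_le (sub_nonneg.2 ((deg_strictMono hω).monotone (le_closedPt P)))
  have hdim' : ringKrullDim (A ⧸ p) = e := by
    show ringKrullDim (A ⧸ P.asIdeal) = e
    rw [ringKrullDim_quotient_eq hω P, he]; rfl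
  have key : ∀ k : ℕ, (k : WithBot ℕ∞) ≤ min (2 : WithBot ℕ∞) (p.height : WithBot ℕ∞) → 3 < k + e →
      (3 : WithBot ℕ∞) < (LocCoh.depth (Localization.AtPrime p) (Localization.AtPrime p) : WithBot ℕ∞) + ringKrullDim (A ⧸ p) := by
    intro k hk hke
    rw [hdim']
    refine lt_of_lt_of_le ?_ (add_le_add (hk.trans hm) le_rfl)
    exact_mod_cast hke
  rcases eq_or_ne p.height 0 with h0 | h0
  · have h4 := hdim p (Ideal.height_eq_zero_iff.1 h0) hfp
    rw [hdim'] at h4
    have h4' : 4 ≤ e := by exact_mod_cast h4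
    exact key 0 (le_min (by norm_num) (by norm_num)) (by omega)
  rcases eq_or_ne p.height 1 with h1 | h1
  · obtain ⟨q, hqp, hq⟩ := PunctLefLib.exists_minimal_covBy (p := P) h1
    have h4 := hdim _ hq fun h => hfp (hqp.lt.le h)
    have hdeg := deg_covBy hω hqp
    rw [ringKrullDim_quotient_eq hω q] at h4
    have h5 : (4 : ℕ) ≤ (deg hω (closedPt A) - deg hω q).toNat :=
      ENat.natCast_le_natCast.1 (WithBot.coe_le_coe.1
        (show (((4 : ℕ) : ℕ∞) : WithBot ℕ∞) ≤ _ from h4))
    exact key 1 (le_min (by norm_num) (by rw [h1]; norm_num)) (by omega)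
  · have h2 : (2 : ℕ∞) ≤ p.height :=
      Order.add_one_le_of_lt (lt_of_le_of_ne (Order.one_le_iff_ne_zero.2 h0) (Ne.symm h1))
    refine key 2 (le_min le_rfl (WithBot.coe_le_coe.2 h2)) ?_
    by_contra he2
    refine hrad ?_
    rw [Ideal.radical_eq_sInf]
    refine le_antisymm (sInf_le ⟨sup_le (IsLocalRing.le_maximalIdeal hp.ne_top)
      ((Ideal.span_singleton_le_iff_mem _).2 hf), inferInstance⟩) (le_sInf ?_)
    rintro r ⟨hle, hr⟩
    let R : PrimeSpectrum A := ⟨r, hr⟩
    have hlt : P < R := lt_of_le_of_ne (le_sup_left.trans hle) fun h =>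
      hfp ((SetLike.ext_iff.1 (congrArg PrimeSpectrum.asIdeal h) f).2
        (hle (Ideal.mem_sup_right (Ideal.mem_span_singleton_self f))))
    have hR : R = closedPt A := by
      by_contra hne
      have := deg_strictMono hω hlt
      have := deg_strictMono hω (lt_of_le_of_ne (le_closedPt R) hne)
      omega
    exact (congrArg PrimeSpectrum.asIdeal hR).ge

end NhdExt
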