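import Groth.Agent.Formal2AlgzLib.Local

/-!
# Compatible sections are finite as soon as a power of `f` has finite image on sections
-/

set_option autoImplicit false
set_option linter.unusedSectionVars false
set_option linter.style.haveILetI false
set_option maxRecDepth 8000

noncomputable section

universe u

open CategoryTheory CategoryTheory.Limits AlgebraicGeometry TopologicalSpace Opposite
open KoszLcLib (scal)
open Formal2VBLib (stalkHom)
open LocCohLib (Hf Hδ exact_Hδ H0Equiv)

attribute [local instance] HasDerivedCategory.standard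

namespace NhdExt

open Formal2AlgzLib
open IsLocalRing (maximalIdeal)

section Range

variable {A : Type u} [CommRing A] [IsNoetherianRing A] [IsLocalRing A]

theorem Hf_smul_pi {N : Type u} [AddCommGroup N] [Module A N] {r i : ℕ} (s : A)
    (h : ∀ z : LocCoh.H (maximalIdeal A) i N, s • z = 0) (y : LocCoh.H (maximalIdeal A) i (Fin r → N)) :
    s • y = 0 := by
  classical
  have e : (LinearMap.id : (Fin r → N) →ₗ[A] (Fin r → N)) =
      ∑ j : Fin r, LinearMap.single A (fun _ : Fin r => N) j ∘ₗ LinearMap.proj j :=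
    LinearMap.ext fun v => by simp [LinearMap.sum_apply, Finset.univ_sum_single]
  rw [← CanonModLib.Hf_id (n := i) y, e, CanonModLib.Hf_sum, Finset.smul_sum]
  refine Finset.sum_eq_zero fun j _ => ?_
  rw [LocCohLib.Hf_comp, ← map_smul, h, map_zero]

/-- A multiple of the sections is finite when the model cohomology is killed. -/
theorem finite_range_smul_S {f s : A} {G : (PU (maximalIdeal A)).Modules} (hcoh : Coh.IsCoh G)
    (hkill : Formal.KilledBy (Ideal.span ({f} : Set A)) G)
    (hfree : Formal2.IsFinLocFreeMod (Ideal.span ({f} : Set A)) 1 G) {K : Ideal A}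
    (hK : maximalIdeal A ≤ K.radical)
    (hz : ∀ a ∈ K, ∀ z : LocCoh.H (maximalIdeal A) 1 (A ⧸ Ideal.span ({f} : Set A)), a • s • z = 0) :
    Module.Finite A (LinearMap.range (s • (LinearMap.id : S G →ₗ[A] S G))) := by
  haveI : Coh.IsQCoh G := hcoh.1
  obtain ⟨M₀, hM₀, htor, hfac⟩ := exists_model_factor hcoh hkill hfree
  have hker : ∀ x : S G, (∃ n : ℕ, ∀ a ∈ maximalIdeal A ^ n, a • x = 0) → x = 0 := fun x ⟨n, hn⟩ => by
    refine eq_zero_of_gS G x fun y => ?_
    obtain ⟨g, hg, hgy⟩ := Set.not_subset.1 (not_le_pr y)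
    have h := congrArg (gS G y) (hn (g ^ n) (Ideal.pow_mem_pow hg n))
    rw [gS_smul, map_zero] at h
    exact (isUnit_stalkHom fun h' => hgy ((pr y).isPrime.mem_of_pow_mem n h')).smul_eq_zero.1 h
  have hS : Subsingleton (LocCoh.H (maximalIdeal A) 0 (S G)) := by
    rw [(H0Equiv (maximalIdeal A) (S G)).toEquiv.subsingleton_congr, Submodule.subsingleton_iff_eq_bot, eq_bot_iff]
    exact fun x hx => (Submodule.mem_bot A).2 (hker x hx)
  let δ := Hδ (I := maximalIdeal A) M₀.injective_subtype (LinearMap.exact_subtype_mkQ M₀) M₀.mkQ_surjective 0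
  have hδ : Function.Injective δ := (injective_iff_map_eq_zero _).2 fun x hx => by
    obtain ⟨w, rfl⟩ := ((exact_Hδ M₀.injective_subtype (LinearMap.exact_subtype_mkQ M₀) M₀.mkQ_surjective 0).2 x).1 hx
    rw [Subsingleton.elim w 0, map_zero]
  let J : Ideal A := Module.annihilator A
    (LinearMap.range (s • (LinearMap.id : LocCoh.H (maximalIdeal A) 1 M₀ →ₗ[A] _)))
  have hJ : maximalIdeal A ≤ J.radical := by
    rw [Ideal.radical_eq_sInf]
    refine le_sInf fun P ⟨hP, hPp⟩ => ?_
    by_contra hPm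
    obtain ⟨g, hg, hgP, r, k, ψ, χ, hψχ⟩ := hfac ⟨P, hPp⟩ hPm
    obtain ⟨k', hk'⟩ := hK hg
    refine hgP (hPp.mem_of_pow_mem (k' + k) (hP (Module.mem_annihilator.2 ?_)))
    rintro ⟨_, y, rfl⟩
    refine Subtype.ext ?_
    change g ^ (k' + k) • s • y = 0
    have h0 : ∀ v, (g ^ k' * s) • v = (0 : LocCoh.H (maximalIdeal A) 1 (Fin r → A ⧸ Ideal.span ({f} : Set A))) :=
      Hf_smul_pi (g ^ k' * s) fun z => by rw [mul_smul]; exact hz _ hk' z
    rw [pow_add, smul_smul, mul_assoc, mul_comm (g ^ k) s, ← mul_assoc, mul_smul,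
      ← LocCohLib.Hf_smul_id (I := maximalIdeal A) (g ^ k) 1 y, ← hψχ, LocCohLib.Hf_comp, ← map_smul, h0, map_zero]
  obtain ⟨N, hN⟩ := Ideal.exists_pow_le_of_le_radical_of_fg hJ (IsNoetherian.noetherian _)
  have hmem : ∀ a ∈ maximalIdeal A ^ N, ∀ x : S G, a • s • x ∈ M₀ := fun a ha x => by
    let z := (H0Equiv (maximalIdeal A) (S G ⧸ M₀)).symm ⟨M₀.mkQ x, htor _⟩
    have h1 : a • s • z = 0 := hδ (by
      rw [map_smul, map_smul, map_zero]
      exact congrArg Subtype.val (Module.mem_annihilator.1 (hN ha) ⟨_, δ z, rfl⟩))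
    have h2 := congrArg (fun w => ((H0Equiv (maximalIdeal A) (S G ⧸ M₀)) w).1) h1
    rw [← Submodule.Quotient.mk_eq_zero, Submodule.Quotient.mk_smul, Submodule.Quotient.mk_smul]
    simpa [z] using h2
  obtain ⟨T, hT⟩ := IsNoetherian.noetherian (maximalIdeal A ^ N)
  let R := LinearMap.range (s • (LinearMap.id : S G →ₗ[A] S G))
  have hmR : ∀ t : T, ∀ x : R, (t.1 : A) • (x : S G) ∈ M₀ := fun t x => by
    obtain ⟨_, y, rfl⟩ := x
    exact hmem _ (hT ▸ Submodule.subset_span t.2) y
  let φ : R →ₗ[A] (T → M₀) := LinearMap.pi fun t =>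
    ((t.1 • (LinearMap.id : S G →ₗ[A] S G)).comp R.subtype).codRestrict M₀ (hmR t)
  refine Module.Finite.of_injective φ ((injective_iff_map_eq_zero _).2 fun x hx => Subtype.ext (hker _ ⟨N, fun a ha => ?_⟩))
  rw [← hT] at ha
  induction ha using Submodule.span_induction with
  | mem b hb => exact congrArg Subtype.val (congrFun hx ⟨b, hb⟩)
  | zero => exact zero_smul _ _
  | add b c _ _ hb hc => rw [add_smul, hb, hc, add_zero]
  | smul r b _ hb => rw [smul_eq_mul, mul_smul, hb, smul_zero]

end Range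

section Lim

variable {A : Type u} [CommRing A] [IsNoetherianRing A] {𝔞 : Ideal A} {f : A}
  {G : ℕᵒᵖ ⥤ (PU 𝔞).Modules} (hG : Formal.IsCohFormal (Ideal.span ({f} : Set A)) G)
  (hfree : ∀ n : ℕ, Formal2.IsFinLocFreeMod (Ideal.span ({f} : Set A)) (n + 1) (G.obj (op n)))
  (hnzd : f ∈ nonZeroDivisors A)

include hfree hnzd hG in
theorem finite_Lim_of_range [IsAdicComplete (Ideal.span ({f} : Set A)) A]
    (hp : (LinearMap.range (proj (G := G) 0)).FG) :
    Module.Finite A (Lim G) := by
  set I := Ideal.span ({f} : Set A) with hI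
  have hfI : f ∈ I := Ideal.mem_span_singleton_self f
  let p : Lim G →ₗ[A] SG G 0 := proj 0
  obtain ⟨T, hT⟩ := hp
  have hmem : ∀ s : T, (s : SG G 0) ∈ LinearMap.range p := fun s => hT ▸ Submodule.subset_span s.2
  choose g hg using hmem
  let L : (T → A) →ₗ[A] Lim G := Fintype.linearCombination A g
  have hstep : ∀ y : Lim G, ∃ (a : T → A) (y' : Lim G), y = L a + f • y' := by
    intro y
    have h1 : p y ∈ Submodule.span A (T : Set (SG G 0)) := hT.symm ▸ LinearMap.mem_range_self p y
    obtain ⟨a, ha⟩ := (Submodule.mem_span_range_iff_exists_fun A (v := fun s : T => (s : SG G 0))).1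
      (by simpa using h1)
    obtain ⟨y', hy'⟩ := proj_eq_zero_imp hG hfree hnzd 0 (y - L a) (by
      show p (y - L a) = 0
      rw [map_sub, sub_eq_zero, ← ha]
      simp only [L, Fintype.linearCombination_apply, map_sum, map_smul, hg])
    exact ⟨a, y', by rw [← pow_one f, hy', add_sub_cancel]⟩
  choose α β hαβ using hstep
  haveI := CompleteLib.isAdicComplete_of_finite (I := I) (M := T → A)
  refine Module.Finite.of_surjective L fun y => ?_
  let r : ℕ → Lim G := fun k => β^[k] y
  let s : ℕ → (T → A) := fun k => ∑ j ∈ Finset.range k, f ^ j • α (r j)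
  have hs : ∀ k, y = L (s k) + f ^ k • r k := by
    intro k
    induction k with
    | zero => simp [s, r]
    | succ k ih =>
      rw [ih]
      simp only [s, Finset.sum_range_succ, map_add, map_smul, add_assoc, pow_succ, mul_smul, ← smul_add]
      congr 2
      show r k = L (α (r k)) + f • r (k + 1)
      simp only [r, Function.iterate_succ_apply']
      exact hαβ _
  obtain ⟨a, ha⟩ := IsPrecomplete.prec (inferInstance : IsPrecomplete I (T → A)) (f := s) fun {k l} hkl => by
    rw [SModEq.sub_mem, ← neg_sub (s l), Submodule.neg_mem_iff,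
      show s l - s k = ∑ j ∈ Finset.Ico k l, f ^ j • α (r j) from (Finset.sum_Ico_eq_sub _ hkl).symm]
    exact Submodule.sum_mem _ fun j hj => Submodule.smul_mem_smul
      (Ideal.pow_le_pow_right (Finset.mem_Ico.1 hj).1 (Ideal.pow_mem_pow hfI j)) Submodule.mem_top
  refine ⟨a, Subtype.ext (funext fun n => ?_)⟩
  have h1 := SModEq.sub_mem.1 (ha (n + 1))
  have h2 : (L (s (n + 1) - a)).1 n = 0 := by
    refine Submodule.smul_induction_on h1 (fun b hb v _ => ?_) (fun v w hv hw => ?_)
    · rw [map_smul]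
      exact pow_smul_eq_zero hG n hb _
    · rw [map_add]
      exact (congrArg₂ (· + ·) hv hw).trans (add_zero _)
  rw [map_sub] at h2
  conv_rhs => rw [hs (n + 1)]
  show (L a).1 n = (L (s (n + 1))).1 n + f ^ (n + 1) • (r (n + 1)).1 n
  rw [pow_smul_eq_zero hG n (Ideal.pow_mem_pow hfI (n + 1)), add_zero]
  exact (sub_eq_zero.1 h2).symm

/-- Multiplication by `f ^ d` from the bottom level. -/
def jm : ∀ d, SG G 0 →ₗ[A] SG G d
  | 0 => LinearMap.id
  | d + 1 => secL (jmap hG d) ∘ₗ jm d

theorem jm_injective (hfree : ∀ n : ℕ, Formal2.IsFinLocFreeMod (Ideal.span ({f} : Set A)) (n + 1) (G.obj (op n)))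
    (hnzd : f ∈ nonZeroDivisors A) : ∀ d, Function.Injective (jm hG d)
  | 0 => fun _ _ h => h
  | d + 1 => (jmap_injective hG hfree hnzd d).comp (jm_injective hfree hnzd d)

theorem jm_down : ∀ (d : ℕ) (x : SG G d), jm hG d (down G (Nat.zero_le d) x) = f ^ d • x
  | 0, x => by rw [pow_zero, one_smul]; exact down_self _ _
  | d + 1, x => by
    show secL (jmap hG d) (jm hG d (down G (Nat.zero_le (d + 1)) x)) = _
    rw [← down_down (Nat.zero_le d) (Nat.le_succ d) x, jm_down d, map_smul]
    show f ^ d • secL (jmap hG d) (secL (tr G d) x) = _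
    rw [← secL_comp, tr_jmap hG d, secL_smulMod, smul_smul, pow_succ]

include hfree hnzd hG in
/-- Compatible sections are finite when `f ^ d` has finite image on the sections of level `d`. -/
theorem finite_Lim' [IsAdicComplete (Ideal.span ({f} : Set A)) A] {d : ℕ}
    (hfin : Module.Finite A (LinearMap.range ((f ^ d) • (LinearMap.id : SG G d →ₗ[A] SG G d)))) :
    Module.Finite A (Lim G) := by
  refine finite_Lim_of_range hG hfree hnzd ?_
  let R := LinearMap.range ((f ^ d) • (LinearMap.id : SG G d →ₗ[A] SG G d))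
  haveI : IsNoetherian A R := isNoetherian_of_isNoetherianRing_of_finite A R
  have hmem : ∀ x : LinearMap.range (proj (G := G) 0), jm hG d x.1 ∈ R := by
    rintro ⟨_, y, rfl⟩
    refine ⟨y.1 d, ?_⟩
    show f ^ d • y.1 d = jm hG d (y.1 0)
    rw [← jm_down hG d (y.1 d), Lim_down y (Nat.zero_le d)]
  let φ := ((jm hG d).comp (LinearMap.range (proj (G := G) 0)).subtype).codRestrict R hmem
  refine (Module.Finite.iff_fg).1 (Module.Finite.of_injective φ fun a b h => ?_)
  exact Subtype.ext (jm_injective hG hfree hnzd d (congrArg Subtype.val h))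

end Lim

end NhdExt
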