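import Groth.Agent.S1186
import Groth.Agent.S0238
import Groth.Agent.PushLib.SpecPush
import Groth.Agent.PushLib.BCScheme
import Groth.Agent.PushLib.Props
import Mathlib.AlgebraicGeometry.Morphisms.Integral

/-!
# Gluing finite étale covers of closed pieces over an open subscheme
-/

set_option autoImplicit false
set_option linter.style.haveILetI false
set_option backward.isDefEq.respectTransparency false
set_option backward.isDefEq.respectTransparency.types false
set_option maxHeartbeats 1000000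

noncomputable section

universe u

open CategoryTheory CategoryTheory.Limits AlgebraicGeometry TopologicalSpace
open Groth.Agent Groth.Agent.PushLib

namespace NhdExt

/-- Restricting in two steps. -/
def restrictComp {X Y Z : Scheme.{u}} (a : X ⟶ Y) (b : Y ⟶ Z) (c : X ⟶ Z) (h : c = a ≫ b) (V : FEt.Cat Z) :
    (FEt.restrict c).obj V ≅ (FEt.restrict a).obj ((FEt.restrict b).obj V) :=
  (MorphismProperty.Over.pullbackComp a b c h).app V

/-- Covers of two closed subschemes, isomorphic on the overlap, glue on an open subscheme of the pushout. -/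
theorem exists_glue {S XS YS ZS : Scheme.{u}} (iS : ZS ⟶ XS) (jS : ZS ⟶ YS) (aS : XS ⟶ S) (bS : YS ⟶ S)
    [IsClosedImmersion iS] [IsClosedImmersion jS] (hpo : IsPushout iS jS aS bS) (U'' : S.Opens)
    {XT YT ZT : Scheme.{u}} (pX : XT ⟶ XS) (qT : XT ⟶ (U'' : Scheme.{u})) (hXT : IsPullback pX qT aS U''.ι)
    (pY : YT ⟶ YS) (jT : YT ⟶ (U'' : Scheme.{u})) (hYT : IsPullback pY jT bS U''.ι)
    (pZ : ZT ⟶ ZS) (iT : ZT ⟶ XT) (hZT : IsPullback pZ iT iS pX)
    (hT : ZT ⟶ YT) (h₁ : hT ≫ pY = pZ ≫ jS) (h₂ : hT ≫ jT = iT ≫ qT)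
    (Vx : FEt.Cat XT) (Vy : FEt.Cat YT) (e : (FEt.restrict iT).obj Vx ≅ (FEt.restrict hT).obj Vy) :
    ∃ T : FEt.Cat (U'' : Scheme.{u}), Nonempty ((FEt.restrict jT).obj T ≅ Vy) := by
  have hY : ∀ y : YS, ∃ p : Nice iS jS, y ∈ p.V := exists_nice_of_closedImmersion iS jS
  have hT' : IsPullback U''.ι (𝟙 (U'' : Scheme.{u})) (𝟙 S) U''.ι := IsPullback.of_id_snd
  have hpT := isPushout_baseChange hY hpo (𝟙 S) U''.ι (bcInj_of_flat hY hpo (𝟙 S) U''.ι)
    U''.ι (𝟙 _) hT' pX qT hXT pY jT hYT pZ iT hZT hT h₁ h₂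
  haveI : IsClosedImmersion iT := MorphismProperty.of_isPullback hZT ‹IsClosedImmersion iS›
  haveI : IsOpenImmersion pX := MorphismProperty.of_isPullback hXT.flip inferInstance
  haveI : IsOpenImmersion pY := MorphismProperty.of_isPullback hYT.flip inferInstance
  haveI : IsOpenImmersion pZ := MorphismProperty.of_isPullback hZT.flip ‹IsOpenImmersion pX›
  haveI : IsPreimmersion (hT ≫ pY) := by rw [h₁]; infer_instance
  haveI : IsPreimmersion hT := IsPreimmersion.of_comp hT pY
  haveI : IsClosedImmersion hT := by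
    refine IsClosedImmersion.of_isPreimmersion hT ?_
    have hr : Set.range hT = pY ⁻¹' Set.range jS := by
      refine Set.ext fun y => ⟨?_, fun ⟨s, hs⟩ => ?_⟩
      · rintro ⟨z, rfl⟩
        exact ⟨pZ z, by rw [← Scheme.Hom.comp_apply, ← h₁, Scheme.Hom.comp_apply]⟩
      · have hsU : aS (iS s) ∈ U'' := by
          rw [← Scheme.Hom.comp_apply, hpo.w, Scheme.Hom.comp_apply, hs, ← Scheme.Hom.comp_apply, hYT.w,
            Scheme.Hom.comp_apply]
          exact (jT y).2
        obtain ⟨x, hx, -⟩ := Scheme.exists_preimage_of_isPullback hXT (iS s) ⟨_, hsU⟩ rfl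
        obtain ⟨z, hz, -⟩ := Scheme.exists_preimage_of_isPullback hZT s x hx.symm
        refine ⟨z, pY.isOpenEmbedding.injective ?_⟩
        rw [← Scheme.Hom.comp_apply, h₁, Scheme.Hom.comp_apply, hz, hs]
    rw [hr]
    exact jS.isClosedEmbedding.isClosed_range.preimage pY.continuous
  obtain ⟨T, -, hT2⟩ := Groth.Agent.S1186.result iT hT (fun y => by
    by_cases hy : y ∈ Set.range hT
    · obtain ⟨z, rfl⟩ := hy
      obtain ⟨U, hU, hzU, -⟩ := exists_isAffineOpen_mem_and_subset (X := XT) (x := iT z) (U := ⊤) trivial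
      exact ⟨U, hU, fun w hw => hT.isClosedEmbedding.injective hw ▸ hzU⟩
    · exact ⟨⊥, isAffineOpen_bot _, fun w hw => absurd ⟨w, hw⟩ hy⟩) qT jT hpT Vx Vy e
  exact ⟨T, hT2⟩

end NhdExt
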