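import Groth.Agent.CompleteLib.Basic
import Groth.Agent.DepthLib.SkStalk
import Groth.Agent.S0377

/-!
# Killing the `f`-power torsion
-/

set_option autoImplicit false
set_option linter.style.haveILetI false
set_option linter.unusedSectionVars false
set_option maxHeartbeats 1000000

noncomputable section

universe u

namespace NhdExt

variable {A : Type u} [CommRing A] (f : A)

/-- The `f`-power torsion. -/
def tor : Ideal A where
  carrier := {a | ∃ n : ℕ, f ^ n * a = 0}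
  zero_mem' := ⟨0, mul_zero _⟩
  add_mem' := by
    rintro a b ⟨n, hn⟩ ⟨m, hm⟩
    refine ⟨n + m, ?_⟩
    rw [mul_add, pow_add, mul_right_comm, hn, zero_mul, zero_add, mul_assoc, hm, mul_zero]
  smul_mem' := by
    rintro c a ⟨n, hn⟩
    exact ⟨n, by rw [smul_eq_mul, mul_left_comm, hn, mul_zero]⟩

theorem mem_tor {a : A} : a ∈ tor f ↔ ∃ n : ℕ, f ^ n * a = 0 := Iff.rfl

theorem tor_le_of_notMem {p : Ideal A} [p.IsPrime] (hp : f ∉ p) : tor f ≤ p := fun a ⟨n, hn⟩ =>
  (Ideal.IsPrime.mem_or_mem ‹_› (hn ▸ p.zero_mem : f ^ n * a ∈ p)).resolve_left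
    fun h => hp (Ideal.IsPrime.mem_of_pow_mem ‹_› n h)

theorem tor_inf_pow [IsNoetherianRing A] :
    ∃ N : ℕ, N ≠ 0 ∧ ∀ a ∈ tor f, a ∈ Ideal.span ({f ^ N} : Set A) → a = 0 := by
  obtain ⟨T, hT⟩ := IsNoetherian.noetherian (tor f)
  have hex : ∀ t : T, ∃ n : ℕ, f ^ n * (t : A) = 0 := fun t => (mem_tor f).1 (hT ▸ Submodule.subset_span t.2)
  choose n hn using hex
  let M := Finset.univ.sum n + 1
  have hM : ∀ a ∈ tor f, f ^ M * a = 0 := fun a ha => by
    rw [← hT] at ha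
    induction ha using Submodule.span_induction with
    | mem t ht =>
      have hle : n ⟨t, ht⟩ ≤ M := (Finset.single_le_sum (fun _ _ => Nat.zero_le _) (Finset.mem_univ _)).trans (Nat.le_succ _)
      rw [← Nat.sub_add_cancel hle, pow_add, mul_assoc, hn ⟨t, ht⟩, mul_zero]
    | zero => exact mul_zero _
    | add a b _ _ ha hb => rw [mul_add, ha, hb, add_zero]
    | smul c a _ ha => rw [smul_eq_mul, mul_left_comm, ha, mul_zero]
  refine ⟨M, Nat.succ_ne_zero _, fun a ha ha' => ?_⟩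
  obtain ⟨b, rfl⟩ := Ideal.mem_span_singleton'.1 ha'
  obtain ⟨n, hn⟩ := ha
  rw [mul_comm]
  exact hM b ⟨n + M, by rw [pow_add, mul_assoc, mul_comm (f ^ M), hn]⟩

theorem mk_mem_nonZeroDivisors : Ideal.Quotient.mk (tor f) f ∈ nonZeroDivisors (A ⧸ tor f) := by
  rw [mem_nonZeroDivisors_iff_right]
  intro x hx
  obtain ⟨a, rfl⟩ := Ideal.Quotient.mk_surjective x
  rw [← map_mul, Ideal.Quotient.eq_zero_iff_mem] at hx
  obtain ⟨n, hn⟩ := hx
  exact Ideal.Quotient.eq_zero_iff_mem.2 ⟨n + 1, by rw [pow_succ, mul_assoc, mul_comm f, hn]⟩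

theorem isAdicComplete_quot [IsNoetherianRing A] [IsAdicComplete (Ideal.span ({f} : Set A)) A] :
    IsAdicComplete (Ideal.span ({Ideal.Quotient.mk (tor f) f} : Set (A ⧸ tor f))) (A ⧸ tor f) := by
  haveI := CompleteLib.isAdicComplete_of_finite (I := Ideal.span ({f} : Set A)) (M := A ⧸ tor f)
  rw [show Ideal.span ({Ideal.Quotient.mk (tor f) f} : Set (A ⧸ tor f)) =
    (Ideal.span ({f} : Set A)).map (algebraMap A (A ⧸ tor f)) by rw [Ideal.map_span, Set.image_singleton]; rfl]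
  exact (IsAdicComplete.map_algebraMap_iff _ _).mpr inferInstance

/-- Localizations away from `V(f)` do not see the torsion. -/
theorem isLocalization_quot (p₀ : Ideal (A ⧸ tor f)) [p₀.IsPrime] (hp : Ideal.Quotient.mk (tor f) f ∉ p₀) :
    IsLocalization.AtPrime (Localization.AtPrime p₀) (p₀.comap (Ideal.Quotient.mk (tor f))) := by
  let A₀ := A ⧸ tor f
  have hmap : ∀ a : A, algebraMap A (Localization.AtPrime p₀) a =
      algebraMap A₀ (Localization.AtPrime p₀) (Ideal.Quotient.mk (tor f) a) := fun a => rfl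
  refine (isLocalization_iff _ _).2 ⟨fun y => ?_, fun z => ?_, fun {x y} h => ?_⟩
  · rw [hmap]
    exact IsLocalization.map_units _ (⟨Ideal.Quotient.mk _ (y : A), y.2⟩ : p₀.primeCompl)
  · obtain ⟨⟨a, s⟩, h⟩ := IsLocalization.surj p₀.primeCompl z
    obtain ⟨a, rfl⟩ := Ideal.Quotient.mk_surjective a
    obtain ⟨s', hs'⟩ := Ideal.Quotient.mk_surjective (s : A₀)
    refine ⟨⟨a, ⟨s', show Ideal.Quotient.mk (tor f) s' ∉ p₀ by rw [hs']; exact s.2⟩⟩, ?_⟩
    rw [hmap, hmap]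
    show z * algebraMap A₀ _ (Ideal.Quotient.mk (tor f) s') = _
    rw [congrArg (algebraMap A₀ (Localization.AtPrime p₀)) hs']
    exact h
  · rw [hmap, hmap, IsLocalization.eq_iff_exists p₀.primeCompl] at h
    obtain ⟨s, hs⟩ := h
    obtain ⟨s', hs'⟩ := Ideal.Quotient.mk_surjective (s : A₀)
    rw [← hs', ← map_mul, ← map_mul, Ideal.Quotient.mk_eq_mk_iff_sub_mem] at hs
    obtain ⟨n, hn⟩ := hs
    refine ⟨⟨f ^ n * s', fun hmem => ?_⟩, ?_⟩
    · have h1 : Ideal.Quotient.mk (tor f) (f ^ n * s') ∈ p₀ := hmem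
      rw [map_mul, map_pow, hs'] at h1
      rcases Ideal.IsPrime.mem_or_mem ‹p₀.IsPrime› h1 with h | h
      · exact hp (Ideal.IsPrime.mem_of_pow_mem ‹_› n h)
      · exact s.2 h
    · show f ^ n * s' * x = f ^ n * s' * y
      rw [← sub_eq_zero, mul_assoc, mul_assoc, ← mul_sub, hn]

/-- The depth hypothesis passes to the quotient by the torsion. -/
theorem depth_hyp_quot [IsNoetherianRing A] [IsLocalRing A] [IsLocalRing (A ⧸ tor f)]
    (h : ∀ p : Ideal A, ∀ _ : p.IsPrime, f ∉ p → (p ⊔ Ideal.span {f}).radical ≠ IsLocalRing.maximalIdeal A →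
      (3 : WithBot ℕ∞) < (LocCoh.depth (Localization.AtPrime p) (Localization.AtPrime p) : WithBot ℕ∞) + ringKrullDim (A ⧸ p))
    (p₀ : Ideal (A ⧸ tor f)) [p₀.IsPrime] (hp : Ideal.Quotient.mk (tor f) f ∉ p₀)
    (hr : ∃ r : Ideal (A ⧸ tor f), r.IsPrime ∧ p₀ ≤ r ∧ Ideal.Quotient.mk (tor f) f ∈ r ∧
      r ≠ IsLocalRing.maximalIdeal (A ⧸ tor f)) :
    (3 : WithBot ℕ∞) < ((LocCoh.depth (Localization.AtPrime p₀) (Localization.AtPrime p₀) : ℕ∞) : WithBot ℕ∞) +
        ringKrullDim ((A ⧸ tor f) ⧸ p₀) := by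
  haveI := isLocalization_quot f p₀ hp
  let p := p₀.comap (Ideal.Quotient.mk (tor f))
  haveI : IsNoetherianRing (Localization.AtPrime p) := IsLocalization.isNoetherianRing p.primeCompl _ inferInstance
  haveI : IsNoetherianRing (Localization.AtPrime p₀) := IsLocalization.isNoetherianRing p₀.primeCompl _ inferInstance
  let e : Localization.AtPrime p ≃+* Localization.AtPrime p₀ :=
    (IsLocalization.algEquiv p.primeCompl (Localization.AtPrime p) (Localization.AtPrime p₀)).toRingEquiv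
  let e' : A ⧸ p ≃+* (A ⧸ tor f) ⧸ p₀ :=
    RingEquiv.ofBijective (Ideal.quotientMap p₀ (Ideal.Quotient.mk (tor f)) le_rfl)
      ⟨Ideal.quotientMap_injective, Ideal.quotientMap_surjective Ideal.Quotient.mk_surjective⟩
  rw [← DepthLib.depth_congr_ringEquiv e, ← ringKrullDim_eq_of_ringEquiv e']
  refine h p inferInstance hp fun heq => ?_
  obtain ⟨r, hr1, hr2, hr3, hr4⟩ := hr
  let r' := r.comap (Ideal.Quotient.mk (tor f))
  have hle : (p ⊔ Ideal.span {f}).radical ≤ r' :=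
    (Ideal.IsPrime.radical_le_iff (inferInstance : r'.IsPrime)).2
      (sup_le (Ideal.comap_mono hr2) ((Ideal.span_singleton_le_iff_mem _).2 hr3))
  haveI : IsLocalHom (Ideal.Quotient.mk (tor f)) := IsLocalHom.of_surjective _ Ideal.Quotient.mk_surjective
  refine hr4 (le_antisymm (IsLocalRing.le_maximalIdeal hr1.ne_top) fun x hx => ?_)
  obtain ⟨a, rfl⟩ := Ideal.Quotient.mk_surjective x
  exact hle (heq.ge (show a ∈ IsLocalRing.maximalIdeal A from fun hu => hx (hu.map _)))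

theorem exists_dualizing_quot [IsNoetherianRing A] {ω : Dual.D A} (hω : Dual.IsDualizing A ω) :
    ∃ ω' : Dual.D (A ⧸ tor f), Dual.IsDualizing (A ⧸ tor f) ω' :=
  Groth.Agent.S0377.result A ω hω (A ⧸ tor f)

end NhdExt
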