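import Groth.Agent.NhdExtLib.Nzd
import Groth.Agent.NhdExtLib.Glue
import Groth.Agent.NhdExtLib.Torsion
import Groth.Agent.NhdFaithLib.Dualizing

/-!
# Extension to a neighbourhood without regularity of the equation
-/

set_option autoImplicit false
set_option linter.style.haveILetI false
set_option backward.isDefEq.respectTransparency false
set_option backward.isDefEq.respectTransparency.types false
set_option maxHeartbeats 2000000
set_option synthInstance.maxHeartbeats 400000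

noncomputable section

universe u

attribute [local instance] HasDerivedCategory.standard

open CategoryTheory CategoryTheory.Limits AlgebraicGeometry TopologicalSpace
open Groth.Agent.PushLib (FibSq specMap)

namespace NhdExt

theorem mem_range_specMap_mk {A : Type u} [CommRing A] (I : Ideal A) (x : Spec (CommRingCat.of A)) :
    x ∈ Set.range (specMap (Ideal.Quotient.mk I)) ↔ I ≤ x.asIdeal := by
  show x ∈ Set.range (PrimeSpectrum.comap (Ideal.Quotient.mk I)) ↔ _
  rw [range_comap_of_surjective _ _ Ideal.Quotient.mk_surjective, PrimeSpectrum.mem_zeroLocus, Ideal.mk_ker,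
    SetLike.coe_subset_coe]

theorem mem_range_fst {A : Type u} [CommRing A] (U : (Spec (CommRingCat.of A)).Opens) (I : Ideal A)
    (x : (U : Scheme.{u})) :
    x ∈ Set.range (pullback.fst U.ι (specMap (Ideal.Quotient.mk I))) ↔ I ≤ (U.ι x).asIdeal := by
  rw [Scheme.Pullback.range_fst]
  exact mem_range_specMap_mk I (U.ι x)

theorem isClosedImmersion_specMap_mk {A : Type u} [CommRing A] (I : Ideal A) :
    IsClosedImmersion (specMap (Ideal.Quotient.mk I)) :=
  IsClosedImmersion.spec_of_surjective _ Ideal.Quotient.mk_surjective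

/-- The case of a nilpotent equation. -/
theorem exists_extension_of_nilpotent {A : Type u} [CommRing A] (f : A) (hf : IsNilpotent f)
    (U : (Spec (CommRingCat.of A)).Opens)
    (V₀ : FEt.Cat (pullback U.ι (Spec.map (CommRingCat.ofHom (Ideal.Quotient.mk (Ideal.span ({f} : Set A))))))) :
    ∃ (U' : (Spec (CommRingCat.of A)).Opens) (_ : U' ≤ U)
      (u' : pullback U.ι (Spec.map (CommRingCat.ofHom (Ideal.Quotient.mk (Ideal.span ({f} : Set A))))) ⟶ (U' : Scheme.{u}))
      (_ : u' ≫ U'.ι = (pullback.fst U.ι (Spec.map (CommRingCat.ofHom (Ideal.Quotient.mk (Ideal.span ({f} : Set A))))) ≫ U.ι))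
      (V' : FEt.Cat (U' : Scheme.{u})), Nonempty ((FEt.restrict u').obj V' ≅ V₀) := by
  haveI := isClosedImmersion_specMap_mk (Ideal.span ({f} : Set A))
  let k := pullback.fst U.ι (specMap (Ideal.Quotient.mk (Ideal.span ({f} : Set A))))
  haveI : IsClosedImmersion k := MorphismProperty.pullback_fst _ _ inferInstance
  haveI : Surjective k := ⟨fun x => (mem_range_fst U _ x).2 ((Ideal.span_singleton_le_iff_mem _).2 (by
    obtain ⟨n, hn⟩ := hf
    exact (U.ι x).isPrime.mem_of_pow_mem n (hn ▸ zero_mem _)))⟩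
  haveI := Groth.Agent.S0238.result k
  exact ⟨U, le_rfl, k, rfl, (FEt.restrict k).objPreimage V₀, ⟨(FEt.restrict k).objObjPreimageIso V₀⟩⟩

/-- The Milnor square of `A / Γ` and `A / f ^ N`. -/
def torSq {A : Type u} [CommRing A] (f : A) (N : ℕ) (hN : ∀ a ∈ tor f, a ∈ Ideal.span ({f ^ N} : Set A) → a = 0) :
    FibSq A (A ⧸ Ideal.span ({f ^ N} : Set A)) (A ⧸ tor f) (A ⧸ (tor f ⊔ Ideal.span ({f ^ N} : Set A))) where
  u := Ideal.Quotient.mk _
  v := Ideal.Quotient.mk _
  q := Ideal.Quotient.factor le_sup_right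
  p := Ideal.Quotient.factor le_sup_left
  w _ := rfl
  surj := Ideal.Quotient.factor_surjective le_sup_left
  inj x y h1 h2 := by
    rw [Ideal.Quotient.mk_eq_mk_iff_sub_mem] at h1 h2
    exact sub_eq_zero.1 (hN _ h2 h1)
  lift b a h := by
    obtain ⟨y, rfl⟩ := Ideal.Quotient.mk_surjective b
    obtain ⟨x, rfl⟩ := Ideal.Quotient.mk_surjective a
    simp only [Ideal.Quotient.factor_mk, Ideal.Quotient.mk_eq_mk_iff_sub_mem] at h
    obtain ⟨γ, hγ, φ, hφ, hsum⟩ := Submodule.mem_sup.1 h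
    refine ⟨x + γ, ?_, ?_⟩
    · rw [Ideal.Quotient.mk_eq_mk_iff_sub_mem, show x + γ - y = -φ by rw [← add_right_inj φ]; linear_combination hsum]
      exact neg_mem hφ
    · rw [Ideal.Quotient.mk_eq_mk_iff_sub_mem, add_sub_cancel_left]
      exact hγ

theorem exists_extension_of_nontrivial (A : Type u) [CommRing A] [IsNoetherianRing A] [IsLocalRing A] {ω : Dual.D A}
    (hω : Dual.IsDualizing A ω) (f : A) (hf : f ∈ IsLocalRing.maximalIdeal A)
    [IsAdicComplete (Ideal.span ({f} : Set A)) A] [IsLocalRing (A ⧸ tor f)]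
    (hb : ∀ p : Ideal A, ∀ _ : p.IsPrime, f ∉ p → (p ⊔ Ideal.span {f}).radical ≠ IsLocalRing.maximalIdeal A →
      (3 : WithBot ℕ∞) < (LocCoh.depth (Localization.AtPrime p) (Localization.AtPrime p) : WithBot ℕ∞) + ringKrullDim (A ⧸ p))
    (U : (Spec (CommRingCat.of A)).Opens) (hU : U = LocCoh.puncturedOpen A (IsLocalRing.maximalIdeal A))
    (V₀ : FEt.Cat (pullback U.ι (Spec.map (CommRingCat.ofHom (Ideal.Quotient.mk (Ideal.span ({f} : Set A))))))) :
    ∃ (U' : (Spec (CommRingCat.of A)).Opens) (_ : U' ≤ U)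
      (u' : pullback U.ι (Spec.map (CommRingCat.ofHom (Ideal.Quotient.mk (Ideal.span ({f} : Set A))))) ⟶ (U' : Scheme.{u}))
      (_ : u' ≫ U'.ι = (pullback.fst U.ι (Spec.map (CommRingCat.ofHom (Ideal.Quotient.mk (Ideal.span ({f} : Set A))))) ≫ U.ι))
      (V' : FEt.Cat (U' : Scheme.{u})), Nonempty ((FEt.restrict u').obj V' ≅ V₀) := by
  obtain ⟨N, hN0, hN⟩ := tor_inf_pow (A := A) f
  let A₀ := A ⧸ tor f
  let v := Ideal.Quotient.mk (tor f)
  let f₀ : A₀ := v f
  haveI : IsLocalHom v := IsLocalHom.of_surjective _ Ideal.Quotient.mk_surjective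
  have hf₀ : f₀ ∈ IsLocalRing.maximalIdeal A₀ := map_nonunit v f hf
  haveI := isAdicComplete_quot (A := A) f
  obtain ⟨ω', hω'⟩ := exists_dualizing_quot f hω
  let a0 := specMap v
  haveI : IsClosedImmersion a0 := isClosedImmersion_specMap_mk _
  let U₀ := a0 ⁻¹ᵁ U
  have hU₀ : U₀ = LocCoh.puncturedOpen A₀ (IsLocalRing.maximalIdeal A₀) := by
    have hm : (IsLocalRing.maximalIdeal A).map (algebraMap A A₀) = IsLocalRing.maximalIdeal A₀ := by
      refine le_antisymm (Ideal.map_le_iff_le_comap.2 fun a ha => map_nonunit v a ha) fun x hx => ?_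
      obtain ⟨a, rfl⟩ := Ideal.Quotient.mk_surjective x
      exact Ideal.mem_map_of_mem _ fun hu => hx (hu.map v)
    show a0 ⁻¹ᵁ U = _
    rw [hU, ← hm]
    exact NhdFaith.preimage_puncturedOpen (A := A) (B := A₀) _
  let g := specMap (Ideal.Quotient.mk (Ideal.span ({f} : Set A)))
  let g₀ := specMap (Ideal.Quotient.mk (Ideal.span ({f₀} : Set A₀)))
  haveI : IsClosedImmersion g := isClosedImmersion_specMap_mk _
  haveI : IsClosedImmersion g₀ := isClosedImmersion_specMap_mk _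
  let rf : A ⧸ Ideal.span ({f} : Set A) →+* A₀ ⧸ Ideal.span ({f₀} : Set A₀) :=
    Ideal.quotientMap _ v (by
      rw [← Ideal.map_le_iff_le_comap, Ideal.map_span, Set.image_singleton])
  have hrf : specMap rf ≫ g = g₀ ≫ a0 := by
    show Spec.map _ ≫ Spec.map _ = Spec.map _ ≫ Spec.map _
    rw [← Spec.map_comp, ← Spec.map_comp]
    rfl
  let ρ : pullback U₀.ι g₀ ⟶ pullback U.ι g :=
    pullback.lift (pullback.fst U₀.ι g₀ ≫ a0 ∣_ U) (pullback.snd U₀.ι g₀ ≫ specMap rf) (by
      rw [Category.assoc, morphismRestrict_ι, ← Category.assoc, pullback.condition, Category.assoc, Category.assoc, hrf])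
  obtain ⟨U'₀, hle₀, u'₀, hu'₀, V'₀, ⟨ε₀⟩⟩ := exists_extension_of_dualizing A₀ hω' f₀ hf₀
    (mk_mem_nonZeroDivisors f) (fun p _ hp hr => depth_hyp_quot f hb p hp hr) U₀ hU₀ ((FEt.restrict ρ).obj V₀)
  obtain ⟨hcont₀, hci₀, hrange₀⟩ := NhdFaith.trace_props f₀ U₀ U'₀ hle₀ u'₀ hu'₀
  haveI := hci₀
  let U'' : (Spec (CommRingCat.of A)).Opens :=
    U ⊓ ⟨(a0 '' (U'₀ : Set _)ᶜ)ᶜ, (a0.isClosedMap _ U'₀.2.isClosed_compl).isOpen_compl⟩
  have hle : U'' ≤ U := inf_le_left
  have hmemX : ∀ x, a0 x ∈ U'' ↔ x ∈ U'₀ := fun x => by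
    constructor
    · intro h
      by_contra hx
      exact h.2 ⟨x, hx, rfl⟩
    · intro h
      refine ⟨hle₀ h, ?_⟩
      rintro ⟨y, hy, hyx⟩
      exact hy (a0.isClosedEmbedding.injective hyx ▸ h)
  have hmemY : ∀ x ∈ U, f ∈ x.asIdeal → x ∈ U'' := fun x hx hfx => by
    refine ⟨hx, ?_⟩
    rintro ⟨y, hy, rfl⟩
    exact hy (hcont₀ y hx hfx)
  let qT : (U'₀ : Scheme.{u}) ⟶ (U'' : Scheme.{u}) := IsOpenImmersion.lift U''.ι (U'₀.ι ≫ a0) (by
    rw [Scheme.Opens.range_ι]; rintro _ ⟨x, rfl⟩; exact (hmemX _).2 x.2)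
  have hqT : qT ≫ U''.ι = U'₀.ι ≫ a0 := IsOpenImmersion.lift_fac _ _ _
  have hXT : IsPullback U'₀.ι qT a0 U''.ι := (IsOpenImmersion.isPullback qT U'₀.ι U''.ι a0 hqT.symm (by
    rw [Scheme.Opens.opensRange_ι, Scheme.Opens.opensRange_ι]
    exact Opens.ext (Set.ext hmemX))).flip
  let bY := specMap (torSq f N hN).u
  haveI : IsClosedImmersion bY := isClosedImmersion_specMap_mk _
  let pY := pullback.snd U.ι bY
  have hfN : ∀ t : (pullback U.ι bY : Scheme.{u}), f ∈ (U.ι (pullback.fst U.ι bY t)).asIdeal := fun t => by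
    refine (U.ι (pullback.fst U.ι bY t)).isPrime.mem_of_pow_mem N ?_
    exact (mem_range_fst U _ _).1 ⟨t, rfl⟩ (Ideal.mem_span_singleton_self _)
  let jT : pullback U.ι bY ⟶ (U'' : Scheme.{u}) := IsOpenImmersion.lift U''.ι (pullback.fst U.ι bY ≫ U.ι) (by
    rw [Scheme.Opens.range_ι]; rintro _ ⟨t, rfl⟩; exact hmemY _ (pullback.fst U.ι bY t).2 (hfN t))
  have hjT : jT ≫ U''.ι = pullback.fst U.ι bY ≫ U.ι := IsOpenImmersion.lift_fac _ _ _
  haveI : IsOpenImmersion pY := MorphismProperty.pullback_snd _ _ inferInstance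
  have hYT : IsPullback pY jT bY U''.ι := (IsOpenImmersion.isPullback jT pY U''.ι bY (hjT.trans pullback.condition).symm (by
    refine Opens.ext (Set.ext fun y => ?_)
    show bY y ∈ U''.ι.opensRange ↔ y ∈ Set.range pY
    rw [Scheme.Opens.opensRange_ι]
    constructor
    · intro h
      exact (Scheme.Pullback.range_snd U.ι bY).ge ((Scheme.Opens.range_ι U).ge (hle h))
    · rintro ⟨t, rfl⟩
      rw [← Scheme.Hom.comp_apply, ← pullback.condition, Scheme.Hom.comp_apply]
      exact hmemY _ (pullback.fst U.ι bY t).2 (hfN t))).flip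
  let iS := specMap (torSq f N hN).p
  let jS := specMap (torSq f N hN).q
  haveI : IsClosedImmersion iS := IsClosedImmersion.spec_of_surjective _ (torSq f N hN).surj
  haveI : IsClosedImmersion jS :=
    IsClosedImmersion.spec_of_surjective _ (Ideal.Quotient.factor_surjective le_sup_right)
  have hw : iS ≫ a0 = jS ≫ bY := (torSq f N hN).isPushout.w
  let pZ := pullback.fst iS U'₀.ι
  let iT := pullback.snd iS U'₀.ι
  let hT : pullback iS U'₀.ι ⟶ pullback U.ι bY :=
    pullback.lift (iT ≫ qT ≫ (Spec (CommRingCat.of A)).homOfLE hle) (pZ ≫ jS) (by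
      rw [Category.assoc, Category.assoc, Scheme.homOfLE_ι, hqT, Category.assoc, ← hw, ← Category.assoc,
        ← pullback.condition, Category.assoc])
  have h₁ : hT ≫ pY = pZ ≫ jS := pullback.lift_snd _ _ _
  have h₂ : hT ≫ jT = iT ≫ qT := by
    rw [← cancel_mono U''.ι, Category.assoc, hjT, ← Category.assoc, pullback.lift_fst]
    simp only [Category.assoc, Scheme.homOfLE_ι]
  -- thickening of the trace
  let rN : A ⧸ Ideal.span ({f ^ N} : Set A) →+* A ⧸ Ideal.span ({f} : Set A) :=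
    Ideal.Quotient.factor ((Ideal.span_singleton_le_iff_mem _).2
      (Ideal.pow_mem_of_mem _ (Ideal.mem_span_singleton_self f) N (Nat.pos_of_ne_zero hN0)))
  have hrN : specMap rN ≫ bY = g := by
    show Spec.map _ ≫ Spec.map _ = Spec.map _
    rw [← Spec.map_comp]
    rfl
  let k : pullback U.ι g ⟶ pullback U.ι bY := pullback.lift (pullback.fst U.ι g) (pullback.snd U.ι g ≫ specMap rN)
    (by rw [Category.assoc, hrN]; exact pullback.condition)
  haveI : IsClosedImmersion (pullback.fst U.ι g) := MorphismProperty.pullback_fst _ _ inferInstance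
  haveI : IsClosedImmersion (pullback.fst U.ι bY) := MorphismProperty.pullback_fst _ _ inferInstance
  haveI : IsClosedImmersion (k ≫ pullback.fst U.ι bY) := by rw [pullback.lift_fst]; infer_instance
  haveI : IsClosedImmersion k := IsClosedImmersion.of_comp k (pullback.fst U.ι bY)
  haveI : Surjective k := ⟨fun t => by
    obtain ⟨s, hs⟩ := (mem_range_fst U _ _).2 ((Ideal.span_singleton_le_iff_mem _).2 (hfN t))
    refine ⟨s, (pullback.fst U.ι bY).isClosedEmbedding.injective ?_⟩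
    rw [← Scheme.Hom.comp_apply, pullback.lift_fst]
    exact hs⟩
  haveI := Groth.Agent.S0238.result k
  let VN := (FEt.restrict k).objPreimage V₀
  let εN : (FEt.restrict k).obj VN ≅ V₀ := (FEt.restrict k).objObjPreimageIso V₀
  -- the trace on the torsion free part inside the overlap
  let rR : A ⧸ (tor f ⊔ Ideal.span ({f ^ N} : Set A)) →+* A₀ ⧸ Ideal.span ({f₀} : Set A₀) :=
    Ideal.Quotient.lift _ ((Ideal.Quotient.mk _).comp v) (fun a ha => by
      refine (sup_le (fun x hx => ?_) ?_ : tor f ⊔ Ideal.span ({f ^ N} : Set A) ≤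
        RingHom.ker ((Ideal.Quotient.mk (Ideal.span ({f₀} : Set A₀))).comp v)) ha
      · show Ideal.Quotient.mk _ (v x) = 0
        rw [Ideal.Quotient.eq_zero_iff_mem.2 hx, map_zero]
      · rw [Ideal.span_singleton_le_iff_mem]
        show Ideal.Quotient.mk _ (v (f ^ N)) = 0
        rw [map_pow, Ideal.Quotient.eq_zero_iff_mem]
        exact Ideal.pow_mem_of_mem _ (Ideal.mem_span_singleton_self f₀) N (Nat.pos_of_ne_zero hN0))
  have hrR : specMap rR ≫ iS = g₀ := by
    show Spec.map _ ≫ Spec.map _ = Spec.map _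
    rw [← Spec.map_comp]
    refine congrArg Spec.map (CommRingCat.hom_ext (Ideal.Quotient.ringHom_ext (RingHom.ext fun a => ?_)))
    rfl
  let k₀ : pullback U₀.ι g₀ ⟶ pullback iS U'₀.ι := pullback.lift (pullback.snd U₀.ι g₀ ≫ specMap rR) u'₀ (by
    rw [Category.assoc, hrR, hu'₀]; exact pullback.condition.symm)
  have hk₀ : k₀ ≫ iT = u'₀ := pullback.lift_snd _ _ _
  haveI : IsClosedImmersion iT := MorphismProperty.pullback_snd _ _ inferInstance
  haveI : IsClosedImmersion (k₀ ≫ iT) := by rw [hk₀]; infer_instance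
  haveI : IsClosedImmersion k₀ := IsClosedImmersion.of_comp k₀ iT
  haveI : Surjective k₀ := ⟨fun z => by
    have hz : iT z ∈ Set.range u'₀ := by
      rw [hrange₀]
      show f₀ ∈ (U'₀.ι (iT z)).asIdeal
      rw [← Scheme.Hom.comp_apply, ← pullback.condition, Scheme.Hom.comp_apply]
      refine (iS (pZ z)).isPrime.mem_of_pow_mem N ?_
      show (torSq f N hN).p (f₀ ^ N) ∈ (pZ z).asIdeal
      rw [show f₀ ^ N = v (f ^ N) from (map_pow v f N).symm]
      show Ideal.Quotient.factor le_sup_left (Ideal.Quotient.mk (tor f) (f ^ N)) ∈ _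
      rw [Ideal.Quotient.factor_mk, Ideal.Quotient.eq_zero_iff_mem.2 (Ideal.mem_sup_right (Ideal.mem_span_singleton_self _))]
      exact zero_mem _
    obtain ⟨w, hw'⟩ := hz
    refine ⟨w, iT.isClosedEmbedding.injective ?_⟩
    rw [← Scheme.Hom.comp_apply, hk₀]
    exact hw'⟩
  haveI := Groth.Agent.S0238.result k₀
  have hcomp : k₀ ≫ hT = ρ ≫ k := by
    rw [← cancel_mono (pullback.fst U.ι bY), ← cancel_mono U.ι]
    simp only [Category.assoc, hT, k, ρ, pullback.lift_fst_assoc, pullback.lift_fst, Scheme.homOfLE_ι, hqT,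
      morphismRestrict_ι, reassoc_of% hk₀, reassoc_of% hu'₀]
    rfl
  let e₁ : (FEt.restrict k₀).obj ((FEt.restrict iT).obj V'₀) ≅ (FEt.restrict k₀).obj ((FEt.restrict hT).obj VN) :=
    (restrictComp k₀ iT u'₀ hk₀.symm V'₀).symm ≪≫ ε₀ ≪≫ (FEt.restrict ρ).mapIso εN.symm ≪≫
      (restrictComp ρ k (ρ ≫ k) rfl VN).symm ≪≫ restrictComp k₀ hT (ρ ≫ k) hcomp.symm VN
  let e := (FEt.restrict k₀).preimageIso e₁
  obtain ⟨T, ⟨εT⟩⟩ := exists_glue iS jS a0 bY (torSq f N hN).isPushout U'' U'₀.ι qT hXT pY jT hYT pZ iT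
    (IsPullback.of_hasPullback iS U'₀.ι) hT h₁ h₂ V'₀ VN e
  refine ⟨U'', hle, k ≫ jT, ?_, T, ⟨restrictComp k jT (k ≫ jT) rfl T ≪≫ (FEt.restrict k).mapIso εT ≪≫ εN⟩⟩
  rw [Category.assoc, hjT, pullback.lift_fst_assoc]

theorem exists_extension (A : Type u) [CommRing A] [IsNoetherianRing A] [IsLocalRing A] {ω : Dual.D A}
    (hω : Dual.IsDualizing A ω) (f : A) (hf : f ∈ IsLocalRing.maximalIdeal A)
    [IsAdicComplete (Ideal.span ({f} : Set A)) A]
    (hb : ∀ p : Ideal A, ∀ _ : p.IsPrime, f ∉ p → (p ⊔ Ideal.span {f}).radical ≠ IsLocalRing.maximalIdeal A →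
      (3 : WithBot ℕ∞) < (LocCoh.depth (Localization.AtPrime p) (Localization.AtPrime p) : WithBot ℕ∞) + ringKrullDim (A ⧸ p))
    (U : (Spec (CommRingCat.of A)).Opens) (hU : U = LocCoh.puncturedOpen A (IsLocalRing.maximalIdeal A))
    (V₀ : FEt.Cat (pullback U.ι (Spec.map (CommRingCat.ofHom (Ideal.Quotient.mk (Ideal.span ({f} : Set A))))))) :
    ∃ (U' : (Spec (CommRingCat.of A)).Opens) (_ : U' ≤ U)
      (u' : pullback U.ι (Spec.map (CommRingCat.ofHom (Ideal.Quotient.mk (Ideal.span ({f} : Set A))))) ⟶ (U' : Scheme.{u}))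
      (_ : u' ≫ U'.ι = (pullback.fst U.ι (Spec.map (CommRingCat.ofHom (Ideal.Quotient.mk (Ideal.span ({f} : Set A))))) ≫ U.ι))
      (V' : FEt.Cat (U' : Scheme.{u})), Nonempty ((FEt.restrict u').obj V' ≅ V₀) := by
  by_cases htop : tor f = ⊤
  · obtain ⟨n, hn⟩ := (mem_tor f).1 (htop ▸ Submodule.mem_top : (1 : A) ∈ tor f)
    exact exists_extension_of_nilpotent f ⟨n, by rwa [mul_one] at hn⟩ U V₀
  · haveI : Nontrivial (A ⧸ tor f) := Ideal.Quotient.nontrivial_iff.2 htop
    haveI : IsLocalRing (A ⧸ tor f) := IsLocalRing.of_surjective' _ Ideal.Quotient.mk_surjective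
    exact exists_extension_of_nontrivial A hω f hf hb U hU V₀

end NhdExt
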