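import Groth.Agent.Formal2AlgzLib.LocalKill

/-!
# A power of `f` almost kills low local cohomology of `A / f ^ n`

The degree `≤ 2` version of `Formal2AlgzLib.exists_kill`.
-/

set_option autoImplicit false
set_option linter.unusedSectionVars false
set_option maxHeartbeats 400000

noncomputable section

universe u

open CategoryTheory

attribute [local instance] HasDerivedCategory.standard

namespace NhdExt

open Formal2AlgzLib
open IsLocalRing (maximalIdeal)

variable {A : Type u} [CommRing A] [IsNoetherianRing A] [IsLocalRing A] {f : A} {ω : Dual.D A}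
  (hω : Dual.IsDualizing A ω) (hf : f ∈ maximalIdeal A) (hnzd : f ∈ nonZeroDivisors A)

include hω hf hnzd in
/-- Modulo an ideal with radical `𝔪`, a power of `f` kills the second local cohomology of `A / f ^ (c + 2)`. -/
theorem exists_kill_le_two
    (h₆ : ∀ (p : Ideal A) [p.IsPrime], f ∉ p →
      (∃ r : Ideal A, r.IsPrime ∧ p ≤ r ∧ f ∈ r ∧ r ≠ maximalIdeal A) →
      (3 : WithBot ℕ∞) < ((LocCoh.depth (Localization.AtPrime p) (Localization.AtPrime p) : ℕ∞) : WithBot ℕ∞) +
        ringKrullDim (A ⧸ p)) :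
    ∃ (c : ℕ) (K : Ideal A), maximalIdeal A ≤ K.radical ∧
      ∀ i ≤ 2, ∀ a ∈ K, ∀ z : LocCoh.H (maximalIdeal A) i (A ⧸ Ideal.span ({f ^ (c + 2)} : Set A)),
        a • f ^ (c + 1) • z = 0 := by
  let T : Set (PrimeSpectrum A) := PrimeSpectrum.zeroLocus ((maximalIdeal A : Ideal A) : Set A)
  let T' : Set (PrimeSpectrum A) := {p | f ∈ p.asIdeal ∨
    ∀ r : PrimeSpectrum A, p ≤ r → f ∈ r.asIdeal → r = IsLocalRing.closedPoint A}
  have hT : StableUnderSpecialization T := (PrimeSpectrum.isClosed_zeroLocus _).stableUnderSpecialization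
  have hT' : StableUnderSpecialization T' := fun x y hxy hx => by
    have hle : x ≤ y := (PrimeSpectrum.le_iff_specializes x y).2 hxy
    exact hx.imp (fun h => hle h) fun h r hr => h r (hle.trans hr)
  obtain ⟨J, hJ, hk⟩ := LcFinLib.exists_ideal_kill hω A (LcFinLib.lcGD (maximalIdeal A)) hT T' hT' 3
    (fun p q hp hq hpq => by
      simp only [T, zeroLocus_maximalIdeal, Set.mem_singleton_iff] at hq
      subst hq
      rw [krullDim_Icc_max]
      obtain ⟨hfp, hr⟩ := not_or.1 hp
      push Not at hr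
      obtain ⟨r, hpr, hfr, hrm⟩ := hr
      exact h₆ p.asIdeal hfp ⟨r.asIdeal, r.isPrime, hpr, hfr, fun h => hrm (PrimeSpectrum.ext h)⟩)
  let col : ℕ →o Ideal A :=
    ⟨fun k => (J * J).colon {f ^ k}, monotone_nat_of_le_succ fun k a ha => Submodule.mem_colon_singleton.2 <| by
      have h : a • f ^ k ∈ J * J := Submodule.mem_colon_singleton.1 ha
      rw [smul_eq_mul, pow_succ, ← mul_assoc]
      exact Ideal.mul_mem_right f _ h⟩
  obtain ⟨c₀, hc₀⟩ := monotone_stabilizes_iff_noetherian.2 (inferInstanceAs (IsNoetherian A A)) col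
  refine ⟨c₀, col c₀ ⊔ Ideal.span {f}, ?_, fun i hi a ha z => ?_⟩
  · rw [Ideal.radical_eq_sInf]
    refine le_sInf fun P ⟨hP, hPp⟩ => ?_
    by_contra hPm
    have hne : P ≠ maximalIdeal A := fun h => hPm h.ge
    have hfP : f ∈ P := hP (Ideal.mem_sup_right (Ideal.mem_span_singleton_self f))
    obtain ⟨p, hp, hpP⟩ := Ideal.exists_minimalPrimes_le (le_sup_left.trans hP : col c₀ ≤ P)
    haveI := hp.1.1
    have hJp : J ≤ p := fun a ha => hp.1.1.mem_or_mem (show a * a ∈ p from hp.1.2
      (Submodule.mem_colon_singleton.2 (Ideal.mul_mem_right (f ^ c₀) _ (Ideal.mul_mem_mul ha ha)))) |>.elim id id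
    rcases hJ (show (⟨p, hp.1.1⟩ : PrimeSpectrum A) ∈ PrimeSpectrum.zeroLocus (J : Set A) from hJp) with h | h
    · obtain ⟨y, hy, hfy⟩ := Ideal.exists_mul_mem_of_mem_minimalPrimes hp h
      refine hy ?_
      rw [hc₀ (c₀ + 1) (Nat.le_succ _)]
      refine Submodule.mem_colon_singleton.2 ?_
      have h' : (f * y) • f ^ c₀ ∈ J * J := Submodule.mem_colon_singleton.1 hfy
      rw [smul_eq_mul, pow_succ']
      rw [smul_eq_mul] at h'
      convert h' using 1
      ring
    · exact hne (congrArg PrimeSpectrum.asIdeal (h ⟨P, hPp⟩ hpP hfP))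
  · rw [smul_smul]
    refine smul_H_quotient_eq_zero _ (pow_mem hnzd _) i (fun j hj b hb w => hk j (by omega) b hb w) ?_ z
    obtain ⟨b, hb, e, he, rfl⟩ := Submodule.mem_sup.1 ha
    obtain ⟨d, rfl⟩ := Ideal.mem_span_singleton'.1 he
    rw [add_mul]
    refine Ideal.add_mem _ (Ideal.mem_sup_left ?_) (Ideal.mem_sup_right (Ideal.mem_span_singleton'.2 ⟨d, by ring⟩))
    have hb' : b • f ^ c₀ ∈ J * J := Submodule.mem_colon_singleton.1 hb
    rw [pow_succ, ← mul_assoc]
    exact Ideal.mul_mem_right f _ hb'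

end NhdExt
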