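import Groth.Agent.PurityLiftLib.Main

/-!
# Extension to a neighbourhood from the properties of the algebra of compatible functions

The arguments of `PurityLiftLib` with the conclusion of `finite_and_levels` as a hypothesis.
-/

set_option autoImplicit false
set_option linter.style.haveILetI false
set_option linter.unusedVariables false

noncomputable section

universe u

open CategoryTheory CategoryTheory.Limits AlgebraicGeometry TopologicalSpace Opposite
open scoped TensorProduct
open PurityLiftLib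
open Pi1

namespace NhdExt

variable {A : Type u} [CommRing A] {J 𝔞 : Ideal A} (C : Cov J 𝔞)

/-- The algebra of compatible functions is finite and identifies the levels over the affine pieces. -/
def Lev (f : A) : Prop := Module.Finite A (B C) ∧
    (∀ h ∈ 𝔞, ∀ (n : ℕ) (x : SY C n), ∃ (k : ℕ) (b : B C), prj C n b = aY C n h ^ k * x) ∧
    (∀ (n : ℕ) (b : B C), prj C n b = 0 → ∃ b' : B C, f ^ (n + 1) • b' = b) ∧
    ∀ b : B C, f • b = 0 → b = 0

variable [IsNoetherianRing A] {f : A} (hJ : J = Ideal.span ({f} : Set A)) (hnzd : f ∈ nonZeroDivisors A)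
  [IsAdicComplete (Ideal.span ({f} : Set A)) A] (hL : Lev C f)

include hJ hnzd hL

theorem isPullback_wL (n : ℕ) :
    IsOpenImmersion (wL C n) ∧
    IsPullback (wL C n) (C.y n) (πL C n) (CohB1.thickToBase (LocCoh.puncturedOpen A 𝔞).ι J n) := by
  obtain ⟨-, hlev, hker, -⟩ := hL
  let j := (LocCoh.puncturedOpen A 𝔞).ι
  let t := CohB1.thickToBase j J n
  let Bh : 𝔞 → (Spec (CommRingCat.of (LB C n))).Opens := fun h =>
    PrimeSpectrum.basicOpen (Ideal.Quotient.mk (J ^ (n + 1)) h.1 ⊗ₜ (1 : B C))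
  have hφ : ∀ h : A, φL C n (Ideal.Quotient.mk (J ^ (n + 1)) h ⊗ₜ 1) = aY C n h := fun h => by
    rw [φL_tmul, map_one, mul_one]
  have hiso : ∀ h, IsIso (wL C n ∣_ Bh h) := fun h => by
    refine isIso_toSpec_restrict (CommRingCat.ofHom (φL C n)) _ ?_ ?_ fun x => ?_
    · show IsAffineOpen ((C.Y n).basicOpen (φL C n _))
      rw [hφ]
      exact isAffineOpen_aY C n h.2
    · refine (injective_iff_map_eq_zero (φL C n)).2 fun x hx => ?_
      obtain ⟨b, rfl⟩ := exists_eq_one_tmul C n x
      rw [φL_right] at hx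
      obtain ⟨b', rfl⟩ := hker n b hx
      rw [TensorProduct.tmul_smul, TensorProduct.smul_tmul', Algebra.smul_def, mul_one,
        Ideal.Quotient.algebraMap_eq, Ideal.Quotient.eq_zero_iff_mem.2 (by
          rw [hJ]; exact Ideal.pow_mem_pow (Ideal.mem_span_singleton_self f) _), TensorProduct.zero_tmul]
    · obtain ⟨k, b, hb⟩ := hlev h.1 h.2 n x
      refine ⟨k, (1 : A ⧸ J ^ (n + 1)) ⊗ₜ b, ?_⟩
      show φL C n _ = φL C n _ ^ k * x
      rw [φL_right, hφ]
      exact hb
  have hmem : ∀ (x : Spec (CommRingCat.of (LB C n))) (h : 𝔞),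
      x ∈ Bh h ↔ h.1 ∉ (CohB1.specQuot J n ((πL C n) x)).asIdeal := fun x h => Iff.rfl
  have hrange : Set.range t = CohB1.specQuot J n ⁻¹' (LocCoh.puncturedOpen A 𝔞 : Set _) := by
    show Set.range (pullback.snd j (CohB1.specQuot J n)) = _
    rw [Scheme.Pullback.range_snd, Scheme.Opens.range_ι]
  obtain ⟨ho, hr⟩ := isOpenImmersion_of_cover (wL C n) Bh hiso fun y => by
    have h0 : CohB1.specQuot J n ((C.p n) y) ∈ LocCoh.puncturedOpen A 𝔞 :=
      hrange.le ⟨C.y n y, by rw [← Scheme.Hom.comp_apply]⟩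
    obtain ⟨h, hh, hhy⟩ := Set.not_subset.1 h0
    exact ⟨⟨h, hh⟩, (hmem _ _).2 (by rw [← Scheme.Hom.comp_apply (wL C n), wL_πL]; exact hhy)⟩
  refine ⟨ho, ?_⟩
  haveI := ho
  haveI : IsOpenImmersion t := MorphismProperty.pullback_snd _ _ inferInstance
  refine (IsOpenImmersion.isPullback (C.y n) (wL C n) t (πL C n) (wL_πL C n) ?_).flip
  refine SetLike.coe_injective ?_
  show πL C n ⁻¹' Set.range t = Set.range (wL C n)
  rw [hr, hrange]
  ext x
  constructor
  · intro hx
    obtain ⟨h, hh, hhx⟩ := Set.not_subset.1 (show (CohB1.specQuot J n ((πL C n) x)) ∈ LocCoh.puncturedOpen A 𝔞 from hx)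
    exact Opens.mem_iSup.2 ⟨⟨h, hh⟩, (hmem _ _).2 hhx⟩
  · intro hx
    obtain ⟨h, hh⟩ := Opens.mem_iSup.1 hx
    exact fun hle => (hmem x h).1 hh (hle h.2)

attribute [local instance] Algebra.TensorProduct.rightAlgebra in
set_option maxHeartbeats 1000000 in
/-- The structure map of a level is étale on the punctured part. -/
theorem etale_localization (n : ℕ) {h : A} (hh : h ∈ 𝔞) :
    Algebra.Etale (A ⧸ J ^ (n + 1))
      ((A ⧸ J ^ (n + 1)) ⊗[A] Localization.Away (algebraMap A (B C) h)) := by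
  obtain ⟨ho, sq⟩ := isPullback_wL C hJ hnzd hL n
  haveI := ho
  haveI : IsOpenImmersion (CohB1.thickToBase (LocCoh.puncturedOpen A 𝔞).ι J n) :=
    MorphismProperty.pullback_snd _ _ inferInstance
  let R := A ⧸ J ^ (n + 1)
  let Bh := Localization.Away (algebraMap A (B C) h)
  let m : LB C n →+* R ⊗[A] Bh :=
    (Algebra.TensorProduct.map (AlgHom.id R R) (IsScalarTower.toAlgHom A (B C) Bh)).toRingHom
  letI := m.toAlgebra
  haveI : IsScalarTower R (LB C n) (R ⊗[A] Bh) := .of_algebraMap_eq'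
    (Algebra.TensorProduct.map (AlgHom.id R R) (IsScalarTower.toAlgHom A (B C) Bh)).comp_algebraMap.symm
  haveI : IsLocalization (Algebra.algebraMapSubmonoid (LB C n) (Submonoid.powers (algebraMap A (B C) h)))
      (R ⊗[A] Bh) :=
    IsLocalization.tensorProduct_tensorProduct_right A R (Submonoid.powers (algebraMap A (B C) h)) Bh
      (by ext; simp [m, RingHom.algebraMap_toAlgebra])
  let e : LB C n := algebraMap (B C) (LB C n) (algebraMap A (B C) h)
  haveI : IsLocalization.Away e (R ⊗[A] Bh) := by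
    show IsLocalization (Submonoid.powers e) _
    rw [show Submonoid.powers e = Algebra.algebraMapSubmonoid (LB C n) (Submonoid.powers (algebraMap A (B C) h)) from
      (Submonoid.map_powers _ _).symm]
    infer_instance
  let em := Spec.map (CommRingCat.ofHom (algebraMap (LB C n) (R ⊗[A] Bh)))
  haveI : IsOpenImmersion em := IsOpenImmersion.of_isLocalization e
  have hrw : Set.range em ⊆ Set.range (wL C n) := by
    intro x hx
    have hx' : x ∈ PrimeSpectrum.basicOpen e :=
      (PrimeSpectrum.localization_away_comap_range (R ⊗[A] Bh) e).le hx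
    rw [range_fst_of sq]
    show (πL C n) x ∈ Set.range (CohB1.thickToBase (LocCoh.puncturedOpen A 𝔞).ι J n)
    have hrange : Set.range (pullback.snd (LocCoh.puncturedOpen A 𝔞).ι (CohB1.specQuot J n)) =
        CohB1.specQuot J n ⁻¹' (LocCoh.puncturedOpen A 𝔞 : Set _) := by
      rw [Scheme.Pullback.range_snd, Scheme.Opens.range_ι]
    refine hrange.ge ?_
    intro hle
    refine hx' ?_
    have h1 : (Ideal.Quotient.mk (J ^ (n + 1)) h ⊗ₜ (1 : B C) : LB C n) = e := by
      show _ = (1 : R) ⊗ₜ[A] algebraMap A (B C) h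
      rw [Algebra.algebraMap_eq_smul_one h, TensorProduct.tmul_smul, TensorProduct.smul_tmul', Algebra.smul_def, mul_one]
      rfl
    rw [← h1]
    exact hle hh
  let l := IsOpenImmersion.lift (wL C n) em hrw
  have hl : l ≫ wL C n = em := IsOpenImmersion.lift_fac _ _ _
  haveI : IsOpenImmersion l := IsOpenImmersion.of_comp l (wL C n)
  haveI : Etale (C.p n) := inferInstance
  have het : Etale (em ≫ πL C n) := by
    rw [← hl, Category.assoc, wL_πL]
    infer_instance
  rw [← Spec.map_comp] at het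
  have h2 := (HasRingHomProperty.Spec_iff (P := @Etale)).1 het
  refine RingHom.etale_algebraMap.1 ?_
  convert! h2 using 1
  exact IsScalarTower.algebraMap_eq R (LB C n) (R ⊗[A] Bh)

attribute [local instance] Algebra.TensorProduct.rightAlgebra

set_option maxHeartbeats 2000000 in
set_option synthInstance.maxHeartbeats 400000 in
theorem isEtaleAt_of_mem (Q : Ideal (B C)) [Q.IsPrime] (hfQ : algebraMap A (B C) f ∈ Q) {h : A} (hh : h ∈ 𝔞)
    (hhQ : algebraMap A (B C) h ∉ Q) : Algebra.IsEtaleAt A Q := by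
  obtain ⟨hfin, -, -, -⟩ := id hL
  haveI : IsNoetherianRing (B C) := Algebra.FiniteType.isNoetherianRing A (B C)
  let c := algebraMap A (B C) h
  let Bh := Localization.Away c
  haveI : Algebra.FiniteType (B C) Bh := IsLocalization.finiteType_of_monoid_fg (Submonoid.powers c) Bh
  haveI : Algebra.FiniteType A Bh := Algebra.FiniteType.trans (S := B C) inferInstance ‹_›
  haveI : IsNoetherianRing Bh := Algebra.FiniteType.isNoetherianRing A Bh
  let Q' : Ideal Bh := Q.map (algebraMap (B C) Bh)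
  have hdis : Disjoint (Submonoid.powers c : Set (B C)) (Q : Set (B C)) :=
    Set.disjoint_left.2 fun x ⟨k, hk⟩ hx => hhQ (‹Q.IsPrime›.mem_of_pow_mem k ((show c ^ k = x from hk).symm ▸ hx))
  haveI : Q'.IsPrime := IsLocalization.isPrime_of_isPrime_disjoint (Submonoid.powers c) Bh Q ‹_› hdis
  have hcm : Ideal.comap (algebraMap (B C) Bh) Q' = Q :=
    IsLocalization.under_map_of_isPrime_disjoint (Submonoid.powers c) Bh ‹_› hdis
  have hle : J.map (algebraMap A Bh) ≤ Q' := by
    refine Ideal.map_le_iff_le_comap.2 (hJ.le.trans ((Ideal.span_singleton_le_iff_mem _).2 ?_))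
    rw [Ideal.mem_comap, IsScalarTower.algebraMap_apply A (B C) Bh]
    exact Ideal.mem_map_of_mem _ hfQ
  haveI hflat : Module.Flat A (Localization.AtPrime Q') := by
    refine MiscFlat6.flat_localization_of_quotient_pow J Q' hle fun m => ?_
    cases m with
    | zero =>
      haveI : Subsingleton (A ⧸ J ^ 0) := Ideal.Quotient.subsingleton_iff.2 (by rw [pow_zero, Ideal.one_eq_top])
      haveI : Subsingleton ((A ⧸ J ^ 0) ⊗[A] Bh) := Module.subsingleton (A ⧸ J ^ 0) _
      exact Module.Flat.of_free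
    | succ n =>
      haveI := etale_localization C hJ hnzd hL n hh
      infer_instance
  haveI hunr : Algebra.IsUnramifiedAt A Q' := by
    refine MiscFlat6.isUnramifiedAt_of_quotient J Q' hle ?_
    have key : ∀ I : Ideal A, I = J → Algebra.Etale (A ⧸ I) ((A ⧸ I) ⊗[A] Bh) →
        Algebra.FormallyUnramified (A ⧸ J) ((A ⧸ J) ⊗[A] Bh) := by
      rintro _ rfl h
      infer_instance
    exact key _ (by rw [zero_add, pow_one]) (etale_localization C hJ hnzd hL 0 hh)
  haveI : Algebra.EssFiniteType A (Localization.AtPrime Q') := Algebra.EssFiniteType.comp A Bh _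
  haveI : Algebra.FormallyUnramified A (Localization.AtPrime Q') := hunr
  haveI : Algebra.FormallyEtale A (Localization.AtPrime Q') := Groth.Agent.WeilRes.formallyEtale_of_flat
  haveI h0 : IsLocalization.AtPrime (Localization.AtPrime Q') (Ideal.comap (algebraMap (B C) Bh) Q') :=
    IsLocalization.isLocalization_isLocalization_atPrime_isLocalization (Submonoid.powers c) (Localization.AtPrime Q') Q'
  haveI h1 : IsLocalization.AtPrime (Localization.AtPrime Q') Q := by
    have key : ∀ (P : Ideal (B C)) [P.IsPrime], IsLocalization.AtPrime (Localization.AtPrime Q') P → P = Q →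
        IsLocalization.AtPrime (Localization.AtPrime Q') Q := by
      rintro P _ hP rfl
      exact hP
    exact key _ h0 hcm
  exact Algebra.FormallyEtale.of_equiv
    ((IsLocalization.algEquiv Q.primeCompl (Localization.AtPrime Q) (Localization.AtPrime Q')).restrictScalars A).symm

theorem exists_extension_nhd :
    ∃ (U' : (Spec (CommRingCat.of A)).Opens) (_ : U' ≤ LocCoh.puncturedOpen A 𝔞)
      (v : CohB1.thick (LocCoh.puncturedOpen A 𝔞).ι J 0 ⟶ (U' : Scheme.{u}))
      (_ : v ≫ U'.ι = CohB1.thickι (LocCoh.puncturedOpen A 𝔞).ι J 0 ≫ (LocCoh.puncturedOpen A 𝔞).ι)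
      (E : Scheme.{u}) (q : E ⟶ (U' : Scheme.{u})) (i : C.Y 0 ⟶ E),
        FEt.prop q ∧ IsPullback i (C.y 0) q v := by
  obtain ⟨hfin, -, -, -⟩ := id hL
  haveI : Algebra.FinitePresentation A (B C) := Algebra.FinitePresentation.of_finiteType.1 inferInstance
  let j := (LocCoh.puncturedOpen A 𝔞).ι
  let π : Spec (CommRingCat.of (B C)) ⟶ Spec (CommRingCat.of A) := Spec.map (CommRingCat.ofHom (algebraMap A (B C)))
  haveI : IsFinite π := (IsFinite.SpecMap_iff _).2 (RingHom.finite_algebraMap.2 hfin)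
  let Lc : Set (PrimeSpectrum (B C)) := Algebra.etaleLocus A (B C)
  have hZ : IsClosed (π '' Lcᶜ) := π.isClosedMap _ Algebra.isOpen_etaleLocus.isClosed_compl
  let U' : (Spec (CommRingCat.of A)).Opens := LocCoh.puncturedOpen A 𝔞 ⊓ ⟨(π '' Lcᶜ)ᶜ, hZ.isOpen_compl⟩
  have hpre : ∀ Q : PrimeSpectrum (B C), Q ∈ π ⁻¹ᵁ U' → Algebra.IsEtaleAt A Q.asIdeal := fun Q hQ => by
    by_contra hQ'
    exact hQ.2 ⟨Q, hQ', rfl⟩
  let t := CohB1.thickToBase j J 0
  let ν : CohB1.thick j J 0 ⟶ Spec (CommRingCat.of A) := CohB1.thickι j J 0 ≫ j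
  have hν : ν = t ≫ CohB1.specQuot J 0 := pullback.condition
  have hνU : Set.range ν ⊆ (U' : Set _) := by
    rintro _ ⟨x, rfl⟩
    refine ⟨(CohB1.thickι j J 0 x).2, ?_⟩
    rintro ⟨Q, hQ, hQx⟩
    have hf : f ∈ (ν x).asIdeal := by
      have h0 : J ^ (0 + 1) ≤ (ν x).asIdeal := by
        rw [hν]
        intro a ha
        show Ideal.Quotient.mk (J ^ (0 + 1)) a ∈ (t x).asIdeal
        rw [Ideal.Quotient.eq_zero_iff_mem.2 ha]
        exact zero_mem _
      refine h0 ?_
      rw [zero_add, pow_one, hJ]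
      exact Ideal.mem_span_singleton_self f
    obtain ⟨h, hh, hhx⟩ := Set.not_subset.1 (CohB1.thickι j J 0 x).2
    refine hQ (@isEtaleAt_of_mem A _ J 𝔞 C _ f hJ hnzd _ hL Q.asIdeal Q.isPrime ?_ h hh ?_)
    · rw [← hQx] at hf
      exact hf
    · intro hq
      have hq' : h ∈ (π Q).asIdeal := hq
      rw [hQx] at hq'
      exact hhx hq' 
  let v := IsOpenImmersion.lift U'.ι ν (by rw [Scheme.Opens.range_ι]; exact hνU)
  have hv : v ≫ U'.ι = ν := IsOpenImmersion.lift_fac _ _ _
  obtain ⟨ho, sq⟩ := isPullback_wL C hJ hnzd hL 0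
  have sq2 : IsPullback (Spec.map (CommRingCat.ofHom (Algebra.TensorProduct.includeRight (R := A)
      (A := A ⧸ J ^ (0 + 1)) (B := B C)).toRingHom)) (πL C 0) π (CohB1.specQuot J 0) :=
    (isPullback_SpecMap_of_isPushout _ _ _ _
      (CommRingCat.isPushout_tensorProduct A (A ⧸ J ^ (0 + 1)) (B C))).flip
  have big := sq.paste_horiz sq2
  rw [← hν] at big
  let u0 := wL C 0 ≫ Spec.map (CommRingCat.ofHom (Algebra.TensorProduct.includeRight (R := A)
      (A := A ⧸ J ^ (0 + 1)) (B := B C)).toRingHom)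
  have hu0 : Set.range u0 ⊆ Set.range (π ⁻¹ᵁ U').ι := by
    rw [Scheme.Opens.range_ι]
    rintro _ ⟨z, rfl⟩
    show π (u0 z) ∈ U'
    rw [← Scheme.Hom.comp_apply, big.w, Scheme.Hom.comp_apply]
    exact hνU ⟨_, rfl⟩
  let i := IsOpenImmersion.lift (π ⁻¹ᵁ U').ι u0 hu0
  have hi : i ≫ (π ⁻¹ᵁ U').ι = u0 := IsOpenImmersion.lift_fac _ _ _
  refine ⟨U', inf_le_left, v, hv, _, π ∣_ U', i, ⟨MorphismProperty.of_isPullback (isPullback_morphismRestrict π U').flip ‹_›, ?_⟩, ?_⟩
  · haveI : Etale ((π ∣_ U') ≫ U'.ι) := by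
      rw [morphismRestrict_ι]
      exact etale_ι_comp _ hpre
    exact Etale.of_comp (π ∣_ U') U'.ι
  · refine IsPullback.of_right ?_ ?_ (isPullback_morphismRestrict π U').flip
    · rw [hi, hv]; exact big
    · rw [← cancel_mono U'.ι, Category.assoc, morphismRestrict_ι, ← Category.assoc, hi, Category.assoc]
      exact big.w.trans ((congrArg (C.y 0 ≫ ·) hv.symm).trans (Category.assoc _ _ _).symm)

end NhdExt
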