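import Groth.Agent.NhdExtLib.Kill
import Groth.Agent.NhdExtLib.FiniteSec
import Groth.Agent.NhdExtLib.Levels

/-!
# The algebra of compatible functions on the punctured spectrum of a local ring
-/

set_option autoImplicit false
set_option linter.style.haveILetI false
set_option linter.unusedSectionVars false
set_option maxRecDepth 8000

noncomputable section

universe u

open CategoryTheory CategoryTheory.Limits AlgebraicGeometry TopologicalSpace Opposite
open IsLocalRing (maximalIdeal)
open PurityLiftLib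

attribute [local instance] HasDerivedCategory.standard

namespace NhdExt

variable {A : Type u} [CommRing A] [IsNoetherianRing A] [IsLocalRing A] {f : A}

theorem lev_of_kill (C : Cov (Ideal.span ({f} : Set A)) (maximalIdeal A)) (hnzd : f ∈ nonZeroDivisors A)
    [IsAdicComplete (Ideal.span ({f} : Set A)) A] {c : ℕ} {K : Ideal A} (hK : maximalIdeal A ≤ K.radical)
    (hz : ∀ i ≤ 2, ∀ a ∈ K, ∀ z : LocCoh.H (maximalIdeal A) i (A ⧸ Ideal.span ({f ^ (c + 2)} : Set A)),
        a • f ^ (c + 1) • z = 0) : Lev C f := by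
  have hG := isCohFormal_sysG C
  have hfree := isFinLocFreeMod_sysG C
  have hpow : Ideal.span ({f} : Set A) ^ (c + 1 + 1) = Ideal.span ({f ^ (c + 2)} : Set A) ^ 1 := by
    rw [pow_one, Ideal.span_singleton_pow]
  have hkill : Formal.KilledBy (Ideal.span ({f ^ (c + 2)} : Set A)) (Formal2AlgzLib.Gn (sysG C) (c + 1)) :=
    fun a ha => hG.2.1 (c + 1) a (by rw [hpow, pow_one]; exact ha)
  have hfr := Formal2AlgzLib.isFinLocFreeMod_of_pow_eq hpow (hfree (c + 1))
  have hS := finite_range_smul_S (s := f ^ (c + 1)) (hG.1 (c + 1)) hkill hfr hK (hz 1 (by omega))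
  haveI := finite_Lim' hG hfree hnzd hS
  have hfin := Formal2AlgzLib.finite_range_smul_HH (s := f ^ (c + 1)) (hG.1 (c + 1)) hkill hfr hK (hz 2 le_rfl)
  obtain ⟨n₁, hn₁⟩ := Formal2AlgzLib.exists_stable_range hG hfree hnzd c hfin
  have hst := Formal2AlgzLib.exists_threshold' hG hfree hnzd hn₁
  refine ⟨Module.Finite.equiv (bLim C).symm, fun h hh n x => ?_, fun n b hb => ?_, fun b hb => ?_⟩
  · obtain ⟨k, y, hy⟩ := exists_lift_levels C hh n ((n₁ + n) + (n + 1)) x
    obtain ⟨z, hz'⟩ := Formal2AlgzLib.exists_lim_of_stable hst n (n + ((n₁ + n) + (n + 1))) (Nat.le_add_left _ _) y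
    refine ⟨k, (bLim C).symm z, ?_⟩
    rw [← hy, ← bLim_val, LinearEquiv.apply_symm_apply, hz']
  · obtain ⟨z, hz'⟩ := Formal2AlgzLib.proj_eq_zero_imp hG hfree hnzd n (bLim C b) hb
    exact ⟨(bLim C).symm z, by rw [← map_smul, hz', LinearEquiv.symm_apply_apply]⟩
  · refine (bLim C).injective (Subtype.ext (funext fun n => Formal2AlgzLib.jmap_injective hG hfree hnzd n ?_))
    rw [map_zero]
    show Formal2AlgzLib.secL (Formal2AlgzLib.jmap hG n) ((bLim C b).1 n) =
      Formal2AlgzLib.secL (Formal2AlgzLib.jmap hG n) 0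
    rw [map_zero, ← (bLim C b).2 n]
    show Formal2AlgzLib.secL (Formal2AlgzLib.jmap hG n)
      (Formal2AlgzLib.secL (Formal2AlgzLib.tr (sysG C) n) ((bLim C b).1 (n + 1))) = 0
    rw [← Formal2AlgzLib.secL_comp, Formal2AlgzLib.tr_jmap hG n, Formal2AlgzLib.secL_smulMod]
    exact congrArg (fun y : Formal2AlgzLib.Lim (sysG C) => y.1 (n + 1))
      ((map_smul (bLim C) f b).symm.trans ((congrArg (bLim C) hb).trans (map_zero _)))

end NhdExt
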