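import Groth.Agent.NhdExtLib.Local
import Groth.Agent.S9481

/-!
# Extension of a cover of the trace of a regular hypersurface to a neighbourhood
-/

set_option autoImplicit false
set_option linter.style.haveILetI false

noncomputable section

universe u

attribute [local instance] HasDerivedCategory.standard

open AlgebraicGeometry CategoryTheory CategoryTheory.Limits
open Pi1

namespace NhdExt

theorem exists_extension_of_kill (A : Type u) [CommRing A] [IsNoetherianRing A] [IsLocalRing A] (f : A)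
    [IsAdicComplete (Ideal.span ({f} : Set A)) A] (hnz : f ∈ nonZeroDivisors A) {c : ℕ} {K : Ideal A}
    (hK : IsLocalRing.maximalIdeal A ≤ K.radical)
    (hz : ∀ i ≤ 2, ∀ a ∈ K, ∀ z : LocCoh.H (IsLocalRing.maximalIdeal A) i (A ⧸ Ideal.span ({f ^ (c + 2)} : Set A)),
        a • f ^ (c + 1) • z = 0)
    (U : (Spec (CommRingCat.of A)).Opens) (hU : U = LocCoh.puncturedOpen A (IsLocalRing.maximalIdeal A))
    (V₀ : FEt.Cat (pullback U.ι (Spec.map (CommRingCat.ofHom (Ideal.Quotient.mk (Ideal.span {f})))))) :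
    ∃ (U' : (Spec (CommRingCat.of A)).Opens) (_ : U' ≤ U)
      (u' : pullback U.ι (Spec.map (CommRingCat.ofHom (Ideal.Quotient.mk (Ideal.span {f})))) ⟶ (U' : Scheme.{u}))
      (_ : u' ≫ U'.ι = (pullback.fst U.ι (Spec.map (CommRingCat.ofHom (Ideal.Quotient.mk (Ideal.span {f})))) ≫ U.ι))
      (V' : FEt.Cat (U' : Scheme.{u})), Nonempty ((FEt.restrict u').obj V' ≅ V₀) := by
  subst hU
  let J := Ideal.span {f}
  let j := (LocCoh.puncturedOpen A (IsLocalRing.maximalIdeal A)).ι
  let g := Spec.map (CommRingCat.ofHom (Ideal.Quotient.mk J))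
  let q : Spec (CommRingCat.of (A ⧸ J ^ (0 + 1))) ≅ Spec (CommRingCat.of (A ⧸ J)) :=
    Scheme.Spec.mapIso ((Ideal.quotEquivOfEq (show J = J ^ (0 + 1) by rw [zero_add, pow_one])).toCommRingCatIso).op
  have hq : q.hom ≫ g = CohB1.specQuot J 0 := by
    show Spec.map _ ≫ Spec.map _ = _
    rw [← Spec.map_comp]
    rfl
  have hp : IsPullback (CohB1.thickι j J 0) (CohB1.thickToBase j J 0 ≫ q.hom) j g :=
    (IsPullback.of_hasPullback j (CohB1.specQuot J 0)).of_iso (Iso.refl _) (Iso.refl _) q (Iso.refl _)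
      ((Category.id_comp _).trans (Category.comp_id _).symm).symm (Category.id_comp _).symm (by simp)
      ((Category.comp_id _).trans hq.symm)
  let e0 := hp.isoPullback
  obtain ⟨C, ⟨ε⟩⟩ := PurityLiftLib.exists_cov (J := J) (𝔞 := IsLocalRing.maximalIdeal A) ((FEt.restrict e0.hom).obj V₀)
  obtain ⟨U', hle, v, hv, E, qE, i, hqE, sq⟩ := exists_extension_nhd C rfl hnz (lev_of_kill C hnz hK hz)
  refine ⟨U', hle, e0.inv ≫ v, ?_, MorphismProperty.Over.mk ⊤ qE hqE, ?_⟩
  · rw [Category.assoc, hv, ← Category.assoc, hp.isoPullback_inv_fst]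
  · let k : C.Y 0 ≅ V₀.left := (MorphismProperty.Over.forget _ _ _ ⋙ Over.forget _).mapIso ε ≪≫
      @asIso _ _ _ _ (pullback.fst V₀.hom e0.hom) (MorphismProperty.of_isPullback (P := MorphismProperty.isomorphisms Scheme) (IsPullback.of_hasPullback V₀.hom e0.hom).flip (e0.isIso_hom))
    have hk : k.hom ≫ V₀.hom = C.y 0 ≫ e0.hom := by
      refine (Category.assoc _ _ _).trans ((congrArg (ε.hom.left ≫ ·) pullback.condition).trans ?_)
      refine (Category.assoc _ _ _).symm.trans (congrArg (· ≫ e0.hom) ?_)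
      exact MorphismProperty.Over.w ε.hom
    have h2 : IsPullback (k.inv ≫ i) V₀.hom qE (e0.inv ≫ v) :=
      sq.of_iso k (Iso.refl _) e0 (Iso.refl _) (by simp) (by simp [hk]) (by simp) (by simp)
    exact ⟨(MorphismProperty.Over.isoMk h2.isoPullback h2.isoPullback_hom_snd).symm⟩


theorem exists_extension_of_dualizing (A : Type u) [CommRing A] [IsNoetherianRing A] [IsLocalRing A] {ω : Dual.D A}
    (hω : Dual.IsDualizing A ω) (f : A) (hf : f ∈ IsLocalRing.maximalIdeal A)
    [IsAdicComplete (Ideal.span ({f} : Set A)) A] (hnz : f ∈ nonZeroDivisors A)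
    (h₆ : ∀ (p : Ideal A) [p.IsPrime], f ∉ p →
      (∃ r : Ideal A, r.IsPrime ∧ p ≤ r ∧ f ∈ r ∧ r ≠ IsLocalRing.maximalIdeal A) →
      (3 : WithBot ℕ∞) < ((LocCoh.depth (Localization.AtPrime p) (Localization.AtPrime p) : ℕ∞) : WithBot ℕ∞) +
        ringKrullDim (A ⧸ p))
    (U : (Spec (CommRingCat.of A)).Opens) (hU : U = LocCoh.puncturedOpen A (IsLocalRing.maximalIdeal A))
    (V₀ : FEt.Cat (pullback U.ι (Spec.map (CommRingCat.ofHom (Ideal.Quotient.mk (Ideal.span ({f} : Set A))))))) :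
    ∃ (U' : (Spec (CommRingCat.of A)).Opens) (_ : U' ≤ U)
      (u' : pullback U.ι (Spec.map (CommRingCat.ofHom (Ideal.Quotient.mk (Ideal.span ({f} : Set A))))) ⟶ (U' : Scheme.{u}))
      (_ : u' ≫ U'.ι = (pullback.fst U.ι (Spec.map (CommRingCat.ofHom (Ideal.Quotient.mk (Ideal.span ({f} : Set A))))) ≫ U.ι))
      (V' : FEt.Cat (U' : Scheme.{u})), Nonempty ((FEt.restrict u').obj V' ≅ V₀) := by
  obtain ⟨c, K, hK, hz⟩ := exists_kill_le_two hω hf hnz h₆
  exact exists_extension_of_kill A f hnz hK hz U hU V₀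

end NhdExt
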